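import Mathlib.CategoryTheory.Functor.Flat
import Mathlib.CategoryTheory.Category.ULift
import Mathlib.Algebra.Category.Grp.AB
import Mathlib.Algebra.Category.Grp.EnoughInjectives
import Mathlib.Algebra.Category.Grp.Colimits
import Mathlib.CategoryTheory.Abelian.GrothendieckAxioms.Colim
import Mathlib.CategoryTheory.Sites.Abelian
import Mathlib.CategoryTheory.Sites.Sheafification

/-!
# Restriction along flat functors of injective abelian sheaves
-/

set_option autoImplicit false
set_option linter.style.haveILetI false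
set_option linter.unusedSectionVars false

universe u

open CategoryTheory CategoryTheory.Limits Opposite

noncomputable section

namespace GrothLib.InjRestrict20

variable {E : Type (u + 1)} [Category.{u} E]

/-- The product over all arrows of given groups, as a presheaf. -/
def arrProd (A : E → AddCommGrpCat.{u + 1}) : Eᵒᵖ ⥤ AddCommGrpCat.{u + 1} where
  obj W := AddCommGrpCat.of (∀ V : E, (V ⟶ W.unop) → A V)
  map {W W'} k := AddCommGrpCat.ofHom
    (AddMonoidHom.mk' (fun (s : ∀ V : E, (V ⟶ W.unop) → A V) (V : E) (g : V ⟶ W'.unop) => s V (g ≫ k.unop))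
      fun _ _ => rfl)
  map_id W := by
    ext (s : ∀ V : E, (V ⟶ W.unop) → A V) V g
    exact congrArg (s V) (Category.comp_id g)
  map_comp {W W' W''} k k' := by
    ext (s : ∀ V : E, (V ⟶ W.unop) → A V) V g
    exact congrArg (s V) (Category.assoc g k'.unop k.unop).symm

/-- A component of the product. -/
def arrEv (A : E → AddCommGrpCat.{u + 1}) {W : Eᵒᵖ} {V : E} (g : V ⟶ W.unop) : (arrProd A).obj W ⟶ A V :=
  AddCommGrpCat.ofHom (AddMonoidHom.mk' (fun (s : ∀ V : E, (V ⟶ W.unop) → A V) => s V g) fun _ _ => rfl)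

theorem map_arrEv (A : E → AddCommGrpCat.{u + 1}) {W W' : Eᵒᵖ} (k : W ⟶ W') {V : E} (g : V ⟶ W'.unop) :
    (arrProd A).map k ≫ arrEv A g = arrEv A (g ≫ k.unop) := rfl

variable {C : Type (u + 1)} [Category.{u} C] (L : C ⥤ E) [RepresentablyFlat L]

instance isFiltered_nbhd (V : E) : IsFiltered (AsSmall.{u + 1} (StructuredArrow V L)ᵒᵖ) :=
  IsFiltered.of_equivalence AsSmall.equiv

/-- The neighbourhood functor. -/
abbrev nbhd (V : E) : AsSmall.{u + 1} (StructuredArrow V L)ᵒᵖ ⥤ Cᵒᵖ :=
  AsSmall.down ⋙ (StructuredArrow.proj V L).op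

theorem injective_comp_arrProd (A : E → AddCommGrpCat.{u + 1}) [∀ V, Injective (A V)] :
    Injective (L.op ⋙ arrProd A) := by
  refine ⟨fun {P Q} φ g _ => ?_⟩
  let c : ∀ V, Cocone (nbhd L V ⋙ P) := fun V =>
    { pt := A V
      ι :=
        { app := fun j => φ.app ((nbhd L V).obj j) ≫ arrEv A (W := op (L.obj (AsSmall.down.obj j).unop.right)) (AsSmall.down.obj j).unop.hom
          naturality := fun j j' h => by
            change P.map ((nbhd L V).map h) ≫ φ.app _ ≫ arrEv A (W := op (L.obj (AsSmall.down.obj j').unop.right)) (AsSmall.down.obj j').unop.hom =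
              (φ.app _ ≫ arrEv A (W := op (L.obj (AsSmall.down.obj j).unop.right)) (AsSmall.down.obj j).unop.hom) ≫ 𝟙 _
            refine (Category.assoc _ _ _).symm.trans ((congrArg
              (fun t => t ≫ arrEv A (W := op (L.obj (AsSmall.down.obj j').unop.right)) (AsSmall.down.obj j').unop.hom)
              (φ.naturality ((nbhd L V).map h))).trans ?_)
            refine ((Category.assoc _ _ _).trans ?_).trans (Category.comp_id _).symm
            exact congrArg (fun t => φ.app ((nbhd L V).obj j) ≫ t)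
              ((map_arrEv A _ _).trans (congrArg (arrEv A) (StructuredArrow.w (AsSmall.down.map h).unop))) } }
  let ψ : ∀ V, colimit (nbhd L V ⋙ P) ⟶ A V := fun V => colimit.desc _ (c V)
  let m : ∀ V, colimit (nbhd L V ⋙ P) ⟶ colimit (nbhd L V ⋙ Q) := fun V =>
    colim.map (Functor.whiskerLeft (nbhd L V) g)
  haveI : ∀ V, Mono (m V) := fun V => by
    haveI : ∀ j, Mono ((Functor.whiskerLeft (nbhd L V) g).app j) := fun j =>
      inferInstanceAs (Mono (g.app _))
    haveI : Mono (Functor.whiskerLeft (nbhd L V) g) := NatTrans.mono_of_mono_app _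
    exact inferInstanceAs (Mono (colim.map (Functor.whiskerLeft (nbhd L V) g)))
  let ψ' : ∀ V, colimit (nbhd L V ⋙ Q) ⟶ A V := fun V => Injective.factorThru (ψ V) (m V)
  let mem : ∀ (W : Cᵒᵖ) (V : E), (V ⟶ L.obj W.unop) → AsSmall.{u + 1} (StructuredArrow V L)ᵒᵖ :=
    fun W V h => AsSmall.up.obj (op (StructuredArrow.mk h))
  let Φ : Q ⟶ L.op ⋙ arrProd A :=
    { app := fun W => AddCommGrpCat.ofHom (AddMonoidHom.mk'
        (fun y (V : E) (h : V ⟶ L.obj W.unop) => ψ' V (colimit.ι (nbhd L V ⋙ Q) (mem W V h) y))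
        fun x y => funext fun V => funext fun h =>
          map_add (colimit.ι (nbhd L V ⋙ Q) (mem W V h) ≫ ψ' V).hom x y)
      naturality := fun W W' k => by
        ext y
        refine funext fun V => funext fun h => congrArg (ψ' V) ?_
        let hk : mem W V (h ≫ L.map k.unop) ⟶ mem W' V h :=
          AsSmall.up.map (StructuredArrow.homMk k.unop rfl : StructuredArrow.mk h ⟶ StructuredArrow.mk (h ≫ L.map k.unop)).op
        exact ConcreteCategory.congr_hom (colimit.w (nbhd L V ⋙ Q) hk) y }
  refine ⟨Φ, ?_⟩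
  ext W x
  refine funext fun V => funext fun h => ?_
  change ψ' V (colimit.ι (nbhd L V ⋙ Q) (mem W V h) (g.app W x)) = _
  have h1 : m V (colimit.ι (nbhd L V ⋙ P) (mem W V h) x) =
      colimit.ι (nbhd L V ⋙ Q) (mem W V h) (g.app W x) :=
    ConcreteCategory.congr_hom (ι_colimMap (Functor.whiskerLeft (nbhd L V) g) (mem W V h)) x
  rw [← h1]
  refine (ConcreteCategory.congr_hom (Injective.comp_factorThru (ψ V) (m V)) _).trans ?_
  exact ConcreteCategory.congr_hom (colimit.ι_desc (c V) (mem W V h)) x

/-- A sheaf which is a retract of the restriction of a product presheaf is injective. -/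
theorem injective_of_retract {J : GrothendieckTopology C} [HasSheafify J AddCommGrpCat.{u + 1}]
    (F : Sheaf J AddCommGrpCat.{u + 1}) (A : E → AddCommGrpCat.{u + 1}) [∀ V, Injective (A V)]
    (i : F.obj ⟶ L.op ⋙ arrProd A) (r : L.op ⋙ arrProd A ⟶ F.obj) (h : i ≫ r = 𝟙 _) : Injective F := by
  haveI := injective_comp_arrProd L A
  refine ⟨fun {P Q} φ g _ => ?_⟩
  haveI : Mono g.hom := inferInstanceAs (Mono ((sheafToPresheaf _ _).map g))
  refine ⟨⟨Injective.factorThru (φ.hom ≫ i) g.hom ≫ r⟩, ?_⟩
  ext : 1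
  refine (Category.assoc _ _ _).symm.trans ?_
  refine (congrArg (fun t => t ≫ r) (Injective.comp_factorThru (φ.hom ≫ i) g.hom)).trans ?_
  exact (Category.assoc _ _ _).trans ((congrArg (fun t => φ.hom ≫ t) h).trans (Category.comp_id _))

end GrothLib.InjRestrict20
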