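import Groth.Agent.Lib.InjRestrict20.Godement
import Mathlib.CategoryTheory.Comma.Over.Basic

/-!
# Restriction of injective sheaves on over categories
-/

set_option autoImplicit false
set_option linter.style.haveILetI false
set_option linter.unusedSectionVars false

universe u

open CategoryTheory CategoryTheory.Limits Opposite

noncomputable section

namespace GrothLib.InjRestrict20

variable {Z : Type (u + 1)} [Category.{u} Z] {T S : Z} (f : T ⟶ S) {C : Type (u + 1)} [Category.{u} C]
  (L : C ⥤ Over T) [RepresentablyFlat L] {J : GrothendieckTopology C} [HasSheafify J AddCommGrpCat.{u + 1}]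
  {K : GrothendieckTopology (Over S)} [HasSheafify K AddCommGrpCat.{u + 1}]

theorem injective_restrict [(L ⋙ Over.map f).IsContinuous J K]
    (I : Sheaf K AddCommGrpCat.{u + 1}) [Injective I] :
    Injective (((L ⋙ Over.map f).sheafPushforwardContinuous AddCommGrpCat.{u + 1} J K).obj I) := by
  haveI : Injective I.obj := Injective.injective_of_adjoint
    (sheafificationAdjunction K AddCommGrpCat.{u + 1}) I
  let A : Over T → AddCommGrpCat.{u + 1} := fun W => Injective.under (I.obj.obj (Opposite.op ((Over.map f).obj W)))
  let A₀ : Over S → AddCommGrpCat.{u + 1} := fun V => Injective.under (I.obj.obj (Opposite.op V))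
  let i₀ : I.obj ⟶ arrProd A₀ :=
    { app := fun W => AddCommGrpCat.ofHom (AddMonoidHom.mk'
        (fun x (V : Over S) (g : V ⟶ W.unop) => Injective.ι (I.obj.obj (Opposite.op V)) (I.obj.map g.op x))
        (fun x y => funext fun V => funext fun g =>
          map_add (I.obj.map g.op ≫ Injective.ι (I.obj.obj (Opposite.op V))).hom x y))
      naturality := fun W W' k => by
        ext x
        refine funext fun V => funext fun g => ?_
        exact congrArg (Injective.ι (I.obj.obj (Opposite.op V)))
          (ConcreteCategory.congr_hom (I.obj.map_comp k g.op) x).symm }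
  haveI : ∀ W, Mono (i₀.app W) := fun W => (AddCommGrpCat.mono_iff_injective _).2 fun x y hxy => by
    have h := (AddCommGrpCat.mono_iff_injective (Injective.ι (I.obj.obj (Opposite.op W.unop)))).1 inferInstance
      (congrFun (congrFun hxy W.unop) (𝟙 _))
    exact (ConcreteCategory.congr_hom (I.obj.map_id W) x).symm.trans (h.trans (ConcreteCategory.congr_hom (I.obj.map_id W) y))
  haveI : Mono i₀ := NatTrans.mono_of_mono_app i₀
  let r₀ := Injective.factorThru (𝟙 _) i₀
  let u := L ⋙ Over.map f
  let lift : ∀ {V : Over S} {U : Over T}, (V ⟶ (Over.map f).obj U) → Over T := fun {_ U} g => Over.mk (g.left ≫ U.hom)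
  let e : ∀ {V : Over S} {U : Over T} (g : V ⟶ (Over.map f).obj U), V ⟶ (Over.map f).obj (lift g) := fun {V U} g =>
    Over.homMk (𝟙 V.left) ((Category.id_comp _).trans ((Category.assoc _ _ _).trans (Over.w g)))
  haveI he : ∀ {V : Over S} {U : Over T} (g : V ⟶ (Over.map f).obj U), IsIso (e g) := fun {V U} g =>
    haveI : IsIso ((Over.forget S).map (e g)) := inferInstanceAs (IsIso (𝟙 V.left))
    isIso_of_reflects_iso (e g) (Over.forget S)
  let τ : ∀ (W : Over T) (V : Over S) (a : V ⟶ (Over.map f).obj W), IsIso a → (A W ⟶ A₀ V) := fun W V a _ =>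
    Injective.factorThru (I.obj.map a.op ≫ Injective.ι (I.obj.obj (Opposite.op V))) (Injective.ι _)
  let ρ : (L).op ⋙ arrProd A ⟶ u.op ⋙ arrProd A₀ :=
    { app := fun U => AddCommGrpCat.ofHom (AddMonoidHom.mk'
        (fun (s : ∀ W : Over T, (W ⟶ (L).obj U.unop) → A W) (V : Over S)
            (g : V ⟶ (Over.map f).obj ((L).obj U.unop)) =>
          τ _ V (e g) inferInstance (s (lift g) (Over.homMk g.left rfl)))
        (fun s s' => funext fun V => funext fun g => map_add (τ _ V (e g) inferInstance).hom _ _))
      naturality := fun U U' k => by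
        ext (s : ∀ W : Over T, (W ⟶ (L).obj U.unop) → A W)
        refine funext fun (V : Over S) => funext fun (g : V ⟶ (Over.map f).obj ((L).obj U'.unop)) => ?_
        have key : ∀ (W W' : Over T), W = W' → ∀ (a : V ⟶ (Over.map f).obj W) (a' : V ⟶ (Over.map f).obj W')
            (h : IsIso a) (h' : IsIso a'), a.left ≍ a'.left →
            ∀ (m : W ⟶ (L).obj U.unop) (m' : W' ⟶ (L).obj U.unop),
            m.left ≍ m'.left → τ W V a h (s W m) = τ W' V a' h' (s W' m') := by
          rintro W _ rfl a a' h h' ha m m' hm
          obtain rfl : a = a' := Over.OverMorphism.ext (eq_of_heq ha)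
          obtain rfl : m = m' := Over.OverMorphism.ext (eq_of_heq hm)
          rfl
        exact key _ _ (congrArg Over.mk ((congrArg (g.left ≫ ·) (Over.w ((L).map k.unop))).symm.trans
          (Category.assoc _ _ _).symm)) _ _ (he _) (he _) HEq.rfl _ _ HEq.rfl }
  let i₁ : u.op ⋙ I.obj ⟶ (L).op ⋙ arrProd A :=
    { app := fun U => AddCommGrpCat.ofHom (AddMonoidHom.mk'
        (fun x (W : Over T) (m : W ⟶ (L).obj U.unop) =>
          Injective.ι (I.obj.obj (Opposite.op ((Over.map f).obj W))) (I.obj.map ((Over.map f).map m).op x))
        (fun x y => funext fun W => funext fun m =>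
          map_add (I.obj.map ((Over.map f).map m).op ≫ Injective.ι (I.obj.obj (Opposite.op ((Over.map f).obj W)))).hom x y))
      naturality := fun U U' k => by
        ext x
        refine funext fun W => funext fun m => ?_
        refine congrArg (Injective.ι (I.obj.obj (Opposite.op ((Over.map f).obj W)))) ?_
        refine (ConcreteCategory.congr_hom (I.obj.map_comp (u.map k.unop).op ((Over.map f).map m).op) x).symm.trans ?_
        refine congrArg (fun t => I.obj.map t x) (congrArg Quiver.Hom.op ?_)
        exact ((Over.map f).map_comp m ((L).map k.unop)).symm }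
  refine injective_of_retract (L) _ A i₁ (ρ ≫ Functor.whiskerLeft u.op r₀) ?_
  have h : i₁ ≫ ρ = Functor.whiskerLeft u.op i₀ := by
    ext U x
    refine funext fun V => funext fun g => ?_
    refine (ConcreteCategory.congr_hom (Injective.comp_factorThru
      (I.obj.map (e g).op ≫ Injective.ι (I.obj.obj (Opposite.op V))) (Injective.ι _))
      (I.obj.map ((Over.map f).map (Over.homMk g.left rfl : lift g ⟶ (L).obj U.unop)).op x)).trans ?_
    refine congrArg (Injective.ι (I.obj.obj (Opposite.op V))) ?_
    refine (ConcreteCategory.congr_hom (I.obj.map_comp _ _) x).symm.trans (congrArg (fun t => I.obj.map t x) ?_)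
    exact congrArg Quiver.Hom.op (Over.OverMorphism.ext (Category.id_comp g.left))
  refine (Category.assoc _ _ _).symm.trans ((congrArg (fun t => t ≫ Functor.whiskerLeft u.op r₀) h).trans ?_)
  refine (Functor.whiskerLeft_comp _ _ _).symm.trans ?_
  rw [Injective.comp_factorThru]
  rfl


end GrothLib.InjRestrict20
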